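import Groth.Agent.RootStruct69.Sub
import Groth.Agent.BigCell29.CellAlg
import Mathlib.AlgebraicGeometry.Properties
import Mathlib.Algebra.Polynomial.Roots

/-!
# Centralisers and attracting groups of cocharacters, on rational points
-/

set_option autoImplicit false
set_option linter.unusedSectionVars false
set_option synthInstance.maxHeartbeats 100000

universe u

open TensorProduct WithConv
open AlgebraicGeometry CategoryTheory
open scoped AddMonoidAlgebra

namespace Groth.Agent.RootStruct69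

open BigCell29 RedRk29
open AlgGrpQ (IsIrred IsReg isReg_id isReg_const)

variable {k : Type u} [Field k] {A : Type u} [CommRing A] [HopfAlgebra k A]
  {B : Type u} [CommRing B] [HopfAlgebra k B]
  [IsAlgClosed k] {M : Type} [AddCommGroup M] [Module.Free ℤ M] [Module.Finite ℤ M] {R : Type u} [CommRing R] [Algebra k R] (T : SplitTorus k A M)

/-- The points of a cocharacter. -/
noncomputable def cT (lam : M →+ ℤ) (s : kˣ) : Pt k A k := T.tor (cchar lam s)

/-- The grading by a cocharacter. -/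
noncomputable abbrev gr (lam : M →+ ℤ) : Coact k A ℤ := T.coact.push lam

theorem conj_cT_apply (lam : M →+ ℤ) (s : kˣ) (g : Pt k A k) (a : A) :
    (cT T lam s * g * (cT T lam s)⁻¹) a = ((gr T lam).c a).coeff.sum fun n x => g x * ((s ^ n : kˣ) : k) := by
  rw [cT, conj_tor_apply]
  show _ = ((AddMonoidAlgebra.mapDomainAlgHom k A lam) (T.coact.c a)).coeff.sum _
  rw [AddMonoidAlgebra.mapDomainAlgHom_apply, AddMonoidAlgebra.coeff_mapDomain,
    Finsupp.sum_mapDomain_index (fun n => by simp) fun n x y => by rw [map_add, add_mul]]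
  exact Finsupp.sum_congr fun m _ => by rw [cchar_apply]


theorem laurent_unique {f : ℤ →₀ k} (h : ∀ s : kˣ, (f.sum fun n r => r * ((s ^ n : kˣ) : k)) = 0) : f = 0 := by
  refine eq_zero_of_sum_char_mul_eq_zero (k := k) fun χ => ?_
  have hu : IsUnit (χ (Multiplicative.ofAdd (1 : ℤ))) := (Group.isUnit _).map χ
  refine Eq.trans (Finsupp.sum_congr fun n _ => ?_) (h hu.unit)
  congr 1
  have e : χ = cchar (AddMonoidHom.id ℤ) hu.unit :=
    MonoidHom.ext_mint (by simp [cchar_apply])
  conv_lhs => rw [e]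
  rfl

theorem forall_coeff_of_forall (lam : M →+ ℤ) (g : Pt k A k) (a : A) (f : ℤ →₀ k)
    (h : ∀ s : kˣ, (cT T lam s * g * (cT T lam s)⁻¹) a = f.sum fun n r => r * ((s ^ n : kˣ) : k)) (n : ℤ) :
    g ((gr T lam).p n a) = f n := by
  classical
  have key : ((gr T lam).c a).coeff.mapRange g (map_zero _) - f = 0 := laurent_unique fun s => by
    rw [Finsupp.sum_sub_index (fun _ _ _ => sub_mul _ _ _), ← h s, conj_cT_apply,
      Finsupp.sum_mapRange_index (fun _ => zero_mul _), sub_self]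
  have := DFunLike.congr_fun key n
  simpa [Coact.p_def, sub_eq_zero] using this

/-- The centraliser of a cocharacter. -/
noncomputable def Zc (lam : M →+ ℤ) : Subgroup (Pt k A k) where
  carrier := {g | (gr T lam).InZ g}
  one_mem' := (gr T lam).inZ_one
  mul_mem' ha hb := Coact.InZ.mul _ ha hb
  inv_mem' ha := Coact.InZ.inv _ ha

/-- The attracting group of a cocharacter. -/
noncomputable def Uc (lam : M →+ ℤ) : Subgroup (Pt k A k) where
  carrier := {g | (gr T lam).InU g}
  one_mem' := (gr T lam).inU_one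
  mul_mem' ha hb := Coact.InU.mul _ ha hb
  inv_mem' ha := Coact.InU.inv _ ha

variable {T}

theorem mem_Zc {lam : M →+ ℤ} {g : Pt k A k} : g ∈ Zc T lam ↔ (gr T lam).InZ g := Iff.rfl

theorem mem_Uc {lam : M →+ ℤ} {g : Pt k A k} : g ∈ Uc T lam ↔ (gr T lam).InU g := Iff.rfl

theorem mem_Zc_iff_commute {lam : M →+ ℤ} {g : Pt k A k} :
    g ∈ Zc T lam ↔ ∀ s, cT T lam s * g = g * cT T lam s := by
  classical
  refine ⟨fun hg s => ?_, fun h a n hn => ?_⟩
  · rw [← mul_inv_eq_iff_eq_mul]
    refine pt_ext fun a => ?_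
    rw [conj_cT_apply, Finsupp.sum, Finset.sum_eq_single 0]
    · rw [zpow_zero, Units.val_one, mul_one]
      exact Coact.InZ.apply_p_zero _ hg a
    · intro n _ hn
      rw [show g (((gr T lam).c a).coeff n) = 0 from hg a n hn, zero_mul]
    · intro h0
      rw [Finsupp.notMem_support_iff.mp h0, map_zero, zero_mul]
  · rw [forall_coeff_of_forall T lam g a (Finsupp.single 0 (g a)) (fun s => ?_) n, Finsupp.single_eq_of_ne hn]
    rw [mul_inv_eq_iff_eq_mul.mpr (h s)]
    simp

theorem tor_mem_Zc (lam : M →+ ℤ) (χ : Multiplicative M →* k) : T.tor χ ∈ Zc T lam :=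
  mem_Zc_iff_commute.mpr fun _ => tor_comm T _ _

theorem tsub_le_Zc (lam : M →+ ℤ) : tsub T ≤ Zc T lam := by
  rintro _ ⟨χ, rfl⟩
  exact tor_mem_Zc lam χ

theorem conj_mem_Uc {lam : M →+ ℤ} {z u : Pt k A k} (hz : z ∈ Zc T lam) (hu : u ∈ Uc T lam) :
    z * u * z⁻¹ ∈ Uc T lam :=
  Coact.InU.conj _ hz hu

/-- A point of the attracting group has limit the identity under the cocharacter. -/
theorem exists_contract {lam : M →+ ℤ} {u : Pt k A k} (hu : u ∈ Uc T lam) (a : A) :
    ∃ P : Polynomial k, P.eval 0 = (1 : Pt k A k) a ∧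
      ∀ s : kˣ, P.eval (s : k) = (cT T lam s * u * (cT T lam s)⁻¹) a := by
  classical
  set f := ((gr T lam).c a).coeff
  have hneg : ∀ n : ℤ, n < 0 → u (f n) = 0 := fun n hn => hu.1 a n hn
  refine ⟨∑ n ∈ f.support.filter (0 ≤ ·), Polynomial.C (u (f n)) * Polynomial.X ^ n.toNat, ?_, fun s => ?_⟩
  · rw [Polynomial.eval_finsetSum, Finset.sum_eq_single (0 : ℤ)]
    · simp only [Int.toNat_zero, pow_zero, mul_one, Polynomial.eval_C]
      exact hu.2 a
    · intro n hn hn0
      have : n.toNat ≠ 0 := by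
        have := (Finset.mem_filter.mp hn).2
        omega
      simp [zero_pow this]
    · intro h0
      have : f 0 = 0 := by simpa using h0
      simp [this]
  · rw [conj_cT_apply, Polynomial.eval_finsetSum, Finsupp.sum, Finset.sum_filter]
    refine Finset.sum_congr rfl fun n _ => ?_
    split_ifs with h
    · simp only [Polynomial.eval_mul, Polynomial.eval_C, Polynomial.eval_pow, Polynomial.eval_X]
      obtain ⟨j, rfl⟩ := Int.eq_ofNat_of_zero_le h
      simp [zpow_natCast, f]
    · rw [hneg n (by omega), zero_mul]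

/-- A character of a group is trivial on the attracted points. -/
theorem eq_one_of_contract {lam : M →+ ℤ} {u : Pt k A k} (hu : u ∈ Uc T lam) {f : A}
    (h : ∀ s, (cT T lam s * u * (cT T lam s)⁻¹) f = u f) : u f = (1 : Pt k A k) f := by
  obtain ⟨P, hP0, hP⟩ := exists_contract hu f
  have : P - Polynomial.C (u f) = 0 := Polynomial.eq_zero_of_infinite_isRoot _ <| by
    haveI : Infinite k := IsAlgClosed.instInfinite
    refine Set.Infinite.mono (s := {z : k | z ≠ 0}) (fun z hz => ?_) (Set.Finite.infinite_compl (Set.finite_singleton 0))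
    have := hP (Units.mk0 z hz)
    rw [h, Units.val_mk0] at this
    simp [this]
  rw [sub_eq_zero] at this
  rw [← hP0, this, Polynomial.eval_C]

theorem gr_neg_p (lam : M →+ ℤ) (n : ℤ) (a : A) : (gr T (-lam)).p n a = (gr T lam).inv.p n a := by
  rw [Coact.inv_p, T.coact.push_p, T.coact.push_p]
  refine Finset.sum_congr (Finset.filter_congr fun m _ => ?_) fun _ _ => rfl
  rw [AddMonoidHom.neg_apply]
  omega

theorem mem_Uc_neg {lam : M →+ ℤ} {g : Pt k A k} : g ∈ Uc T (-lam) ↔ (gr T lam).inv.InU g := by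
  simp only [mem_Uc, Coact.InU, Coact.InP, gr_neg_p]

theorem mem_Zc_neg {lam : M →+ ℤ} {g : Pt k A k} : g ∈ Zc T (-lam) ↔ g ∈ Zc T lam := by
  simp only [mem_Zc, Coact.InZ, gr_neg_p, Coact.inv_p]
  exact ⟨fun h a n hn => by simpa using h a (-n) (neg_ne_zero.mpr hn), fun h a n hn => h a (-n) (neg_ne_zero.mpr hn)⟩

section Scheme

variable [Algebra.FiniteType k A] [Algebra.Smooth k A] [IsDomain A] (lam : M →+ ℤ)

/-- The ring of the cell is a domain. -/
theorem isDomain_cellRing : IsDomain (gr T lam).CellRing := by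
  haveI : Algebra.FinitePresentation k A := Algebra.Smooth.finitePresentation
  haveI : Algebra.FormallySmooth k A := Algebra.Smooth.formallySmooth
  haveI := (gr T lam).isOpenImmersion_cellMor
  let c₀ : (gr T lam).CellRing →ₐ[k] k := (gr T lam).cellLift (gr T lam).inv.inU_one (gr T lam).inZ_one (gr T lam).inU_one
  haveI : Nonempty (Spec (CommRingCat.of (gr T lam).CellRing)) :=
    ⟨(⟨RingHom.ker c₀.toRingHom, RingHom.ker_isPrime _⟩ : PrimeSpectrum (gr T lam).CellRing)⟩
  haveI : IsIntegral (Spec (CommRingCat.of A)) := inferInstance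
  haveI := isIntegral_of_isOpenImmersion (gr T lam).cellMor
  exact (affine_isIntegral_iff (CommRingCat.of (gr T lam).CellRing)).mp inferInstance

theorem isDomain_URing : IsDomain (gr T lam).URing := by
  haveI := isDomain_cellRing (T := T) lam
  let r : (gr T lam).CellRing →ₐ[k] (gr T lam).URing :=
    (gr T lam).cellLift (gr T lam).inv.inU_one (gr T lam).inZ_one (gr T lam).inU_uPt
  have h : r.comp (gr T lam).inclP = AlgHom.id k _ := by
    rw [Coact.cellLift_inclP]
    exact (gr T lam).uHom_ext rfl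
  exact Function.Injective.isDomain (gr T lam).inclP.toRingHom
    (Function.LeftInverse.injective (g := r) fun x => DFunLike.congr_fun h x)

theorem isDomain_ZRing : IsDomain (gr T lam).ZRing := by
  haveI := isDomain_cellRing (T := T) lam
  let r : (gr T lam).CellRing →ₐ[k] (gr T lam).ZRing :=
    (gr T lam).cellLift (gr T lam).inv.inU_one (gr T lam).inZ_zPt (gr T lam).inU_one
  have h : r.comp (gr T lam).inclZ = AlgHom.id k _ := by
    rw [Coact.cellLift_inclZ]
    exact (gr T lam).zHom_ext rfl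
  exact Function.Injective.isDomain (gr T lam).inclZ.toRingHom
    (Function.LeftInverse.injective (g := r) fun x => DFunLike.congr_fun h x)

theorem mem_Uc_iff {g : Pt k A k} : g ∈ Uc T lam ↔ ∀ a ∈ (gr T lam).idealU, g a = 0 := by
  refine ⟨fun hg a ha => ?_, fun h => ?_⟩
  · have := DFunLike.congr_fun (congrArg WithConv.ofConv ((gr T lam).mapPt_uLift hg)) a
    rw [← this, mapPt_apply]
    show ((gr T lam).uLift hg) (Ideal.Quotient.mk _ a) = 0
    rw [Ideal.Quotient.eq_zero_iff_mem.mpr ha, map_zero]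
  · have hle : (gr T lam).idealU ≤ RingHom.ker g.ofConv.toRingHom := h
    have := Coact.InU.map (gr T lam) (gr T lam).inU_uPt (Ideal.Quotient.liftₐ _ g.ofConv hle)
    exact this

theorem mem_Zc_iff {g : Pt k A k} : g ∈ Zc T lam ↔ ∀ a ∈ (gr T lam).idealZ, g a = 0 := by
  refine ⟨fun hg a ha => ?_, fun h => ?_⟩
  · have := DFunLike.congr_fun (congrArg WithConv.ofConv ((gr T lam).mapPt_zLift hg)) a
    rw [← this, mapPt_apply]
    show ((gr T lam).zLift hg) (Ideal.Quotient.mk _ a) = 0
    rw [Ideal.Quotient.eq_zero_iff_mem.mpr ha, map_zero]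
  · intro a n hn
    exact h _ (Ideal.subset_span ⟨a, n, hn, rfl⟩)

theorem isPrime_idealU : (gr T lam).idealU.IsPrime := by
  haveI : IsDomain (A ⧸ (gr T lam).idealU) := isDomain_URing lam
  exact (Ideal.Quotient.isDomain_iff_prime _).mp inferInstance

theorem isPrime_idealZ : (gr T lam).idealZ.IsPrime := by
  haveI : IsDomain (A ⧸ (gr T lam).idealZ) := isDomain_ZRing lam
  exact (Ideal.Quotient.isDomain_iff_prime _).mp inferInstance

theorem vanIdeal_Uc : vanIdeal (Uc T lam) = (gr T lam).idealU := by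
  haveI := isPrime_idealU (T := T) lam
  refine le_antisymm (fun a ha => mem_of_zeros (k := k) fun g hg => ?_) fun a ha => ?_
  · exact (mem_vanIdeal _).mp ha g ((mem_Uc_iff lam).mpr hg)
  · exact (mem_vanIdeal _).mpr fun g hg => (mem_Uc_iff lam).mp hg a ha

theorem vanIdeal_Zc : vanIdeal (Zc T lam) = (gr T lam).idealZ := by
  haveI := isPrime_idealZ (T := T) lam
  refine le_antisymm (fun a ha => mem_of_zeros (k := k) fun g hg => ?_) fun a ha => ?_
  · exact (mem_vanIdeal _).mp ha g ((mem_Zc_iff lam).mpr hg)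
  · exact (mem_vanIdeal _).mpr fun g hg => (mem_Zc_iff lam).mp hg a ha

theorem isClosedPts_Uc : IsClosedPts (Uc T lam : Set (Pt k A k)) :=
  fun g hg => (mem_Uc_iff lam).mpr fun a ha => hg a fun _ hh => (mem_Uc_iff lam).mp hh a ha

theorem isClosedPts_Zc : IsClosedPts (Zc T lam : Set (Pt k A k)) :=
  fun g hg => (mem_Zc_iff lam).mpr fun a ha => hg a fun _ hh => (mem_Zc_iff lam).mp hh a ha

theorem isIrred_of_isPrime {H : Subgroup (Pt k A k)} (h : (vanIdeal H).IsPrime) : IsIrred (H : Set (Pt k A k)) := by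
  intro a b hab
  rcases h.mem_or_mem ((mem_vanIdeal H).mpr fun g hg => (map_mul g.ofConv a b).trans (hab g hg)) with h' | h'
  · exact Or.inl ((mem_vanIdeal H).mp h')
  · exact Or.inr ((mem_vanIdeal H).mp h')

theorem isIrred_Uc : IsIrred (Uc T lam : Set (Pt k A k)) :=
  isIrred_of_isPrime (vanIdeal_Uc (T := T) lam ▸ isPrime_idealU lam)

theorem isIrred_Zc : IsIrred (Zc T lam : Set (Pt k A k)) :=
  isIrred_of_isPrime (vanIdeal_Zc (T := T) lam ▸ isPrime_idealZ lam)

/-- The cell contains the points off a hypersurface avoiding the identity. -/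
theorem exists_cell : ∃ f : A, (1 : Pt k A k) f ≠ 0 ∧ ∀ g : Pt k A k, g f ≠ 0 →
    ∃ x ∈ Uc T (-lam), ∃ z ∈ Zc T lam, ∃ y ∈ Uc T lam, g = x * z * y := by
  haveI : Algebra.FinitePresentation k A := Algebra.Smooth.finitePresentation
  haveI : Algebra.FormallySmooth k A := Algebra.Smooth.formallySmooth
  set D := gr T lam
  haveI := D.isOpenImmersion_cellMor
  have : Algebra.FinitePresentation k (D.inv.URing ⊗[k] D.ZRing) := .trans k D.inv.URing _
  have : Algebra.FinitePresentation k D.CellRing :=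
    Algebra.FinitePresentation.trans k (D.inv.URing ⊗[k] D.ZRing) ((D.inv.URing ⊗[k] D.ZRing) ⊗[k] D.URing)
  have : Algebra.FiniteType k D.CellRing := Algebra.FiniteType.of_finitePresentation
  have hopen : IsOpen (Set.range (PrimeSpectrum.comap D.cellHom.toRingHom)) :=
    D.cellMor.isOpenEmbedding.isOpen_range
  let c₀ : D.CellRing →ₐ[k] k := D.cellLift D.inv.inU_one D.inZ_one D.inU_one
  let p0 : PrimeSpectrum A := ⟨RingHom.ker (1 : Pt k A k).ofConv.toRingHom, RingHom.ker_isPrime _⟩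
  have hp0 : p0 ∈ Set.range (PrimeSpectrum.comap D.cellHom.toRingHom) := by
    refine ⟨⟨RingHom.ker c₀.toRingHom, RingHom.ker_isPrime _⟩, PrimeSpectrum.ext ?_⟩
    have e : mapPt c₀ D.cellPt = 1 := by rw [D.mapPt_cellLift, mul_one, mul_one]
    ext a
    have e' := DFunLike.congr_fun (congrArg WithConv.ofConv e) a
    show c₀ (D.cellHom a) = 0 ↔ (1 : Pt k A k) a = 0
    rw [← e']
    exact Iff.rfl
  obtain ⟨_, ⟨f, rfl⟩, hf, hsub⟩ :=
    PrimeSpectrum.isTopologicalBasis_basic_opens.exists_subset_of_mem_open hp0 hopen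
  refine ⟨f, hf, fun g hg => ?_⟩
  obtain ⟨h, hh⟩ := ComodLib.exists_lift_of_mem_range D.cellHom g.ofConv
    (hsub (show f ∉ RingHom.ker g.ofConv.toRingHom from hg))
  refine ⟨mapPt (h.comp D.inclM) D.inv.uPt, mem_Uc_neg.mpr (Coact.InU.map _ D.inv.inU_uPt _),
    mapPt (h.comp D.inclZ) D.zPt, Coact.InZ.map D D.inZ_zPt _,
    mapPt (h.comp D.inclP) D.uPt, Coact.InU.map D D.inU_uPt _, ?_⟩
  rw [← mapPt_mapPt, ← mapPt_mapPt, ← mapPt_mapPt, ← map_mul, ← map_mul]
  exact WithConv.ext hh.symm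

/-- A regular function vanishing on the cell vanishes everywhere. -/
theorem cell_dense {a : A} (h : ∀ x ∈ Uc T (-lam), ∀ z ∈ Zc T lam, ∀ y ∈ Uc T lam, (x * z * y) a = 0) : a = 0 := by
  obtain ⟨f, hf, hcell⟩ := exists_cell (T := T) lam
  have hfa : f * a = 0 := by
    refine RedRk29.eq_zero_of_points (k := k) _ fun g => ?_
    rw [map_mul]
    by_cases hg : g f = 0
    · rw [hg, zero_mul]
    obtain ⟨x, hx, z, hz, y, hy, e⟩ := hcell (toConv g) hg
    have := h x hx z hz y hy
    rw [← e] at this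
    exact mul_eq_zero_of_right _ this
  rcases mul_eq_zero.mp hfa with h0 | h0
  · exact absurd (by rw [h0, map_zero]) hf
  · exact h0

/-- A closed subgroup containing the cell is everything. -/
theorem eq_top_of_cell {H : Subgroup (Pt k A k)} (hc : IsClosedPts (H : Set (Pt k A k))) (h1 : Uc T (-lam) ≤ H)
    (h2 : Zc T lam ≤ H) (h3 : Uc T lam ≤ H) : H = ⊤ := by
  refine eq_top_iff.mpr fun g _ => hc fun a ha => ?_
  rw [cell_dense (T := T) lam fun x hx z hz y hy => ha _ (H.mul_mem (H.mul_mem (h1 hx) (h2 hz)) (h3 hy)), map_zero]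

end Scheme

section Weights

variable [Algebra.FiniteType k A]

variable (T) in
/-- Finitely many weights control the grading. -/
theorem exists_gen_weights : ∃ P : Finset M, ∀ (S : Type u) [CommRing S] [Algebra k S] (g : Pt k A S)
    (K : AddSubgroup M), (∀ m ∈ P, m ∉ K → ∀ a, g (T.coact.p m a) = 0) → ∀ m ∉ K, ∀ a, g (T.coact.p m a) = 0 := by
  classical
  obtain ⟨s, hs⟩ := (Algebra.FiniteType.out : (⊤ : Subalgebra k A).FG)
  refine ⟨s.biUnion fun a => (T.coact.c a).coeff.support, fun S _ _ g K hg => ?_⟩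
  let Sa : Subalgebra k A :=
    { carrier := {a | ∀ m ∉ K, g (T.coact.p m a) = 0}
      mul_mem' := fun {a b} ha hb m hm => by
        rw [T.coact.p_mul, map_sum]
        refine Finset.sum_eq_zero fun i _ => ?_
        rw [map_mul]
        by_cases hi : i ∈ K
        · rw [hb (m - i) fun h => hm (by simpa using K.add_mem h hi), mul_zero]
        · rw [ha i hi, zero_mul]
      one_mem' := fun m hm => by
        rw [T.coact.p_one_ne (fun h : m = 0 => hm (h ▸ K.zero_mem)), map_zero]
      add_mem' := fun {a b} ha hb m hm => by rw [map_add, map_add, ha m hm, hb m hm, add_zero]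
      zero_mem' := fun m _ => by rw [map_zero, map_zero]
      algebraMap_mem' := fun r m hm => by
        rw [Algebra.algebraMap_eq_smul_one, map_smul, T.coact.p_one_ne (fun h : m = 0 => hm (h ▸ K.zero_mem)),
          smul_zero, map_zero] }
  have hle : Algebra.adjoin k (s : Set A) ≤ Sa := Algebra.adjoin_le fun a ha m hm => by
    by_cases hmem : m ∈ (T.coact.c a).coeff.support
    · exact hg m (Finset.mem_biUnion.mpr ⟨a, ha, hmem⟩) hm a
    · rw [T.coact.p_eq_zero_of_notMem hmem, map_zero]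
  intro m hm a
  exact hle (hs ▸ Algebra.mem_top) m hm

theorem p_of_Zc {lam : M →+ ℤ} {g : Pt k A k} (hg : g ∈ Zc T lam) {m : M} (hm : lam m ≠ 0) (a : A) :
    g (T.coact.p m a) = 0 := by
  classical
  have h := hg (T.coact.p m a) (lam m) hm
  rw [gr, T.coact.push_p, map_sum, Finset.sum_filter, Finset.sum_eq_single m] at h
  · rw [if_pos rfl, T.coact.p_p_self] at h; exact h
  · intro n _ hn; split_ifs
    · rw [T.coact.p_p_ne hn.symm, map_zero]
    · rfl
  · intro hne; rw [if_pos rfl, T.coact.p_eq_zero_of_notMem hne, map_zero]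


/-- A cocharacter regular for the grading. -/
def IsRegCochar (T : SplitTorus k A M) (lam : M →+ ℤ) : Prop :=
  ∀ g ∈ Zc T lam, ∀ χ : Multiplicative M →* k, T.tor χ * g = g * T.tor χ

theorem commute_of_p {g : Pt k A k} {K : AddSubgroup M} (h : ∀ m ∉ K, ∀ a, g (T.coact.p m a) = 0)
    {χ : Multiplicative M →* k} (hχ : ∀ m ∈ K, χ (Multiplicative.ofAdd m) = 1) : T.tor χ * g = g * T.tor χ := by
  rw [← mul_inv_eq_iff_eq_mul]
  refine pt_ext fun a => ?_
  rw [conj_tor_apply]
  conv_rhs => rw [← T.coact.sum_p a, map_sum]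
  refine Finset.sum_congr rfl fun m _ => ?_
  show g ((T.coact.c a).coeff m) * _ = g (T.coact.p m a)
  by_cases hm : m ∈ K
  · rw [hχ m hm, mul_one]; rfl
  · rw [show g ((T.coact.c a).coeff m) = 0 from h m hm a, zero_mul, h m hm a]

/-- Cocharacters in general position. -/
theorem exists_avoid (D : Finset M) (L : AddSubgroup M)
    (hD : ∀ d ∈ D, ∃ l : M →+ ℤ, (∀ x ∈ L, l x = 0) ∧ l d ≠ 0) :
    ∃ l : M →+ ℤ, (∀ x ∈ L, l x = 0) ∧ ∀ d ∈ D, l d ≠ 0 := by
  classical
  induction D using Finset.induction_on with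
  | empty => exact ⟨0, fun _ _ => rfl, by simp⟩
  | insert d D hd ih =>
    obtain ⟨l, hl, hlD⟩ := ih fun e he => hD e (Finset.mem_insert_of_mem he)
    obtain ⟨l', hl', hd'⟩ := hD d (Finset.mem_insert_self d D)
    obtain ⟨N, hN⟩ := Infinite.exists_notMem_finset
      ((insert d D).biUnion fun e => if l e = 0 then ∅ else ({-(l' e / l e)} : Finset ℤ))
    simp only [Finset.mem_biUnion, not_exists, not_and] at hN
    refine ⟨N • l + l', fun x hx => by simp [hl x hx, hl' x hx], fun e he h0 => ?_⟩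
    simp only [AddMonoidHom.add_apply, AddMonoidHom.smul_apply, smul_eq_mul] at h0
    by_cases hle : l e = 0
    · rw [hle, mul_zero, zero_add] at h0
      rcases Finset.mem_insert.mp he with rfl | heD
      · exact hd' h0
      · exact hlD e heD hle
    · refine hN e he ?_
      rw [if_neg hle, Finset.mem_singleton, show l' e = (-N) * l e by linarith, Int.mul_ediv_cancel _ hle, neg_neg]

variable (T) in
/-- Regular cocharacters exist, also avoiding given weights. -/
theorem exists_isRegCochar (D : Finset M) :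
    ∃ lam : M →+ ℤ, IsRegCochar T lam ∧ ∀ d ∈ D, d ≠ 0 → lam d ≠ 0 := by
  classical
  obtain ⟨P, hP⟩ := exists_gen_weights T
  obtain ⟨lam, -, hlam⟩ := exists_avoid ((P ∪ D).filter (· ≠ 0)) ⊥ fun d hd => by
    obtain ⟨l, hl⟩ := exists_functional_ne_zero (Finset.mem_filter.mp hd).2
    exact ⟨l, fun x hx => by rw [AddSubgroup.mem_bot.mp hx, map_zero], hl⟩
  refine ⟨lam, fun g hg χ => commute_of_p (K := ⊥) (fun m hm a => hP k g ⊥ (fun m hmP hm0 a => p_of_Zc hg ?_ a) m hm a)
    (fun m hm => by rw [AddSubgroup.mem_bot.mp hm, ofAdd_zero, map_one]), fun d hd hd0 =>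
    hlam d (Finset.mem_filter.mpr ⟨Finset.mem_union_right _ hd, hd0⟩)⟩
  exact hlam m (Finset.mem_filter.mpr ⟨Finset.mem_union_left _ hmP, fun h => hm0 (AddSubgroup.mem_bot.mpr h)⟩)

theorem IsRegCochar.neg {lam : M →+ ℤ} (h : IsRegCochar T lam) : IsRegCochar T (-lam) :=
  fun g hg => h g (mem_Zc_neg.mp hg)

/-- The points of the torus with trivial value at `α` are central. -/
def CentralLine (T : SplitTorus k A M) (α : M) : Prop :=
  ∀ (g : Pt k A k) (χ : Multiplicative M →* k), χ (Multiplicative.ofAdd α) = 1 → T.tor χ * g = g * T.tor χ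

/-- A cocharacter cutting out the line of a weight. -/
theorem exists_line_cochar (P : Finset M) (α : M) :
    ∃ lam0 : M →+ ℤ, lam0 α = 0 ∧ ∀ m ∈ P, lam0 m = 0 → ∀ l : M →+ ℤ, l α = 0 → l m = 0 := by
  classical
  obtain ⟨l, hl, hlD⟩ := exists_avoid (P.filter fun m => ¬ ∀ l : M →+ ℤ, l α = 0 → l m = 0)
    (AddSubgroup.zmultiples α) fun d hd => by
      obtain ⟨l, hl0, hld⟩ := by simpa using (Finset.mem_filter.mp hd).2
      refine ⟨l, fun x hx => ?_, hld⟩
      obtain ⟨j, rfl⟩ := AddSubgroup.mem_zmultiples_iff.mp hx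
      simp [hl0]
  exact ⟨l, hl α (AddSubgroup.mem_zmultiples α), fun m hm h0 => by
    by_contra hne; exact hlD m (Finset.mem_filter.mpr ⟨hm, hne⟩) h0⟩

/-- Primitive vectors span saturated lines. -/
theorem exists_primitive {m : M} (hm : m ≠ 0) :
    ∃ (α : M) (e : ℕ), 0 < e ∧ m = e • α ∧ α ≠ 0 ∧
      ∀ x, (∀ l : M →+ ℤ, l α = 0 → l x = 0) → ∃ j : ℤ, x = j • α := by
  classical
  obtain ⟨l₀, hl₀⟩ := exists_functional_ne_zero hm
  let L : AddSubgroup M :=
    { carrier := {x | ∀ l : M →+ ℤ, l m = 0 → l x = 0}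
      add_mem' := fun hx hy l hl => by rw [map_add, hx l hl, hy l hl, add_zero]
      zero_mem' := fun l _ => map_zero l
      neg_mem' := fun hx l hl => by rw [map_neg, hx l hl, neg_zero] }
  have hinj : ∀ x ∈ L, l₀ x = 0 → x = 0 := fun x hx h0 => by
    by_contra hne
    obtain ⟨l, hl⟩ := exists_functional_ne_zero hne
    have := hx (l₀ m • l - l m • l₀) (by simp [mul_comm])
    simp [h0, hl₀, hl] at this
  obtain ⟨d, hd⟩ := Int.subgroup_cyclic (L.map l₀)
  obtain ⟨α₀, hα₀L, hα₀⟩ : ∃ α₀ ∈ L, l₀ α₀ = d := by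
    have : d ∈ L.map l₀ := hd ▸ AddSubgroup.subset_closure rfl
    exact this
  have key : ∀ x ∈ L, ∃ j : ℤ, x = j • α₀ := fun x hx => by
    have : l₀ x ∈ L.map l₀ := ⟨x, hx, rfl⟩
    rw [hd, AddSubgroup.mem_closure_singleton] at this
    obtain ⟨j, hj⟩ := this
    refine ⟨j, sub_eq_zero.mp (hinj _ (L.sub_mem hx (L.zsmul_mem hα₀L j)) ?_)⟩
    rw [map_sub, map_zsmul, hα₀, hj, sub_self]
  obtain ⟨e, he⟩ := key m fun _ hl => hl
  have he0 : e ≠ 0 := fun h => hm (by rw [he, h, zero_zsmul])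
  have hL : ∀ x, (∀ l : M →+ ℤ, l α₀ = 0 → l x = 0) → x ∈ L := fun x hx l hl =>
    hx l (hα₀L l hl)
  have hα0 : α₀ ≠ 0 := fun h => hm (by rw [he, h, zsmul_zero])
  rcases lt_or_gt_of_ne he0 with hneg | hpos
  · refine ⟨-α₀, (-e).toNat, by omega, ?_, neg_ne_zero.mpr hα0, fun x hx => ?_⟩
    · rw [← natCast_zsmul, Int.toNat_of_nonneg (by omega), neg_zsmul, zsmul_neg, neg_neg, he]
    · obtain ⟨j, hj⟩ := key x (hL x fun l hl => hx l (by simp [hl]))
      exact ⟨-j, by rw [neg_zsmul, zsmul_neg, neg_neg, hj]⟩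
  · refine ⟨α₀, e.toNat, by omega, ?_, hα0, fun x hx => key x (hL x hx)⟩
    rw [← natCast_zsmul, Int.toNat_of_nonneg hpos.le, he]

end Weights

end Groth.Agent.RootStruct69
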