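import Groth.Agent.RedRk29.Vanish
import Groth.Agent.AlgGrpQ.Irred
import Mathlib.RingTheory.Ideal.KrullsHeightTheorem
import Mathlib.GroupTheory.Nilpotent
import Mathlib.RingTheory.Ideal.MinimalPrime.Basic
import Mathlib.RingTheory.Jacobson.Ring

/-!
# Closed subgroups of the rational points of an affine group
-/

set_option autoImplicit false
set_option linter.unusedSectionVars false

universe u

open TensorProduct WithConv

namespace Groth.Agent.RootStruct69

open BigCell29 RedRk29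
open scoped commutatorElement
open AlgGrpQ (IsIrred IsReg isReg_id isReg_const)

variable {k : Type u} [Field k] {A : Type u} [CommRing A] [HopfAlgebra k A]

/-- The Zariski closure of a set of rational points. -/
def zcl (S : Set (Pt k A k)) : Set (Pt k A k) := {g | ∀ a : A, (∀ h ∈ S, h a = 0) → g a = 0}

/-- A closed set of rational points. -/
def IsClosedPts (S : Set (Pt k A k)) : Prop := zcl S ⊆ S

theorem subset_zcl (S : Set (Pt k A k)) : S ⊆ zcl S := fun _ hg _ h => h _ hg

theorem zcl_mono {S S' : Set (Pt k A k)} (h : S ⊆ S') : zcl S ⊆ zcl S' :=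
  fun _ hg a ha => hg a fun x hx => ha x (h hx)

theorem isClosedPts_zcl (S : Set (Pt k A k)) : IsClosedPts (zcl S) :=
  fun _ hg a ha => hg a fun _ hx => hx a ha

theorem isClosedPts_univ : IsClosedPts (Set.univ : Set (Pt k A k)) := Set.subset_univ _

theorem IsClosedPts.inter {S S' : Set (Pt k A k)} (h : IsClosedPts S) (h' : IsClosedPts S') :
    IsClosedPts (S ∩ S') :=
  fun _ hg => ⟨h (zcl_mono Set.inter_subset_left hg), h' (zcl_mono Set.inter_subset_right hg)⟩

theorem isClosedPts_iInter {ι : Sort*} {S : ι → Set (Pt k A k)} (h : ∀ i, IsClosedPts (S i)) :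
    IsClosedPts (⋂ i, S i) :=
  fun _ hg => Set.mem_iInter.mpr fun i => h i (zcl_mono (Set.iInter_subset S i) hg)

theorem isClosedPts_zero (E : Set A) : IsClosedPts {g : Pt k A k | ∀ a ∈ E, g a = 0} :=
  fun _ hg a ha => hg a fun _ hx => hx a ha

/-- The locus where a function takes a given value. -/
theorem isClosedPts_eq (a : A) (c : k) : IsClosedPts {g : Pt k A k | g a = c} := by
  intro g hg
  have := hg (a - algebraMap k A c) fun h hh => by
    rw [map_sub, AlgHom.commutes, show h a = c from hh, Algebra.algebraMap_self, RingHom.id_apply, sub_self]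
  rw [map_sub, AlgHom.commutes, sub_eq_zero] at this
  simpa using this

theorem mapsTo_zcl {f : Pt k A k → Pt k A k} (hf : IsReg f) {S S' : Set (Pt k A k)}
    (h : ∀ x ∈ S, f x ∈ S') {g : Pt k A k} (hg : g ∈ zcl S) : f g ∈ zcl S' := by
  intro a ha
  obtain ⟨b, hb⟩ := hf a
  exact (hb g).trans (hg b fun x hx => (hb x).symm.trans (ha _ (h x hx)))

theorem IsClosedPts.preimage {f : Pt k A k → Pt k A k} (hf : IsReg f) {S : Set (Pt k A k)}
    (hS : IsClosedPts S) : IsClosedPts {g | f g ∈ S} :=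
  fun _ hg => hS (mapsTo_zcl hf (fun _ hx => hx) hg)

theorem isReg_comp {f h : Pt k A k → Pt k A k} (hf : IsReg f) (hh : IsReg h) : IsReg fun g => f (h g) := fun a => by
  obtain ⟨b, hb⟩ := hf a
  obtain ⟨c, hc⟩ := hh b
  exact ⟨c, fun g => (hb _).trans (hc g)⟩

theorem isReg_mulLeft (c : Pt k A k) : IsReg fun g : Pt k A k => c * g := (isReg_const c).mul isReg_id

theorem isReg_mulRight (c : Pt k A k) : IsReg fun g : Pt k A k => g * c := isReg_id.mul (isReg_const c)

theorem isReg_conj (c : Pt k A k) : IsReg fun g : Pt k A k => c * g * c⁻¹ :=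
  ((isReg_const c).mul isReg_id).mul (isReg_const c⁻¹)

theorem isIrred_image {S : Set (Pt k A k)} (hS : IsIrred S) {f : Pt k A k → Pt k A k} (hf : IsReg f) :
    IsIrred (f '' S) := by
  intro a b hab
  obtain ⟨a', ha'⟩ := hf a
  obtain ⟨b', hb'⟩ := hf b
  rcases hS a' b' fun g hg => by rw [← ha', ← hb']; exact hab _ ⟨g, hg, rfl⟩ with h | h
  · exact Or.inl fun _ ⟨g, hg, e⟩ => e ▸ (ha' g).trans (h g hg)
  · exact Or.inr fun _ ⟨g, hg, e⟩ => e ▸ (hb' g).trans (h g hg)

theorem isIrred_zcl {S : Set (Pt k A k)} (hS : IsIrred S) : IsIrred (zcl S) := fun a b hab => by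
  rcases hS a b fun g hg => hab g (subset_zcl S hg) with h | h
  · exact Or.inl fun g hg => hg a h
  · exact Or.inr fun g hg => hg b h

theorem isIrred_of_subset_zcl {S S' : Set (Pt k A k)} (hS : IsIrred S) (h : S ⊆ S') (h' : S' ⊆ zcl S) :
    IsIrred S' := fun a b hab => by
  rcases hS a b fun g hg => hab g (h hg) with ha | hb
  · exact Or.inl fun g hg => h' hg a ha
  · exact Or.inr fun g hg => h' hg b hb

/-- The closure of a group of points. -/
noncomputable def zclGroup (H : Subgroup (Pt k A k)) : Subgroup (Pt k A k) where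
  carrier := zcl (H : Set (Pt k A k))
  one_mem' := subset_zcl _ H.one_mem
  mul_mem' {a b} ha hb := by
    have h1 : ∀ h ∈ H, a * h ∈ zcl (H : Set (Pt k A k)) := fun h hh =>
      mapsTo_zcl (f := fun g => g * h) (isReg_mulRight h) (fun x hx => H.mul_mem hx hh) ha
    exact isClosedPts_zcl _ (mapsTo_zcl (f := fun g => a * g) (isReg_mulLeft a) h1 hb)
  inv_mem' {a} ha := mapsTo_zcl (f := fun g => g⁻¹) isReg_id.inv (fun x hx => H.inv_mem hx) ha

theorem mem_zclGroup {H : Subgroup (Pt k A k)} {g : Pt k A k} :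
    g ∈ zclGroup H ↔ g ∈ zcl (H : Set (Pt k A k)) := Iff.rfl

theorem le_zclGroup (H : Subgroup (Pt k A k)) : H ≤ zclGroup H := fun _ hg => subset_zcl _ hg

theorem isClosedPts_zclGroup (H : Subgroup (Pt k A k)) : IsClosedPts (zclGroup H : Set (Pt k A k)) :=
  isClosedPts_zcl _

theorem zclGroup_le {H K : Subgroup (Pt k A k)} (hK : IsClosedPts (K : Set (Pt k A k))) (h : H ≤ K) :
    zclGroup H ≤ K := fun _ hg => hK (zcl_mono h hg)

theorem mem_zcl_vanIdeal {H : Subgroup (Pt k A k)} {g : Pt k A k} :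
    g ∈ zcl (H : Set (Pt k A k)) ↔ ∀ a ∈ vanIdeal H, g a = 0 :=
  ⟨fun hg a ha => hg a fun h hh => (mem_vanIdeal H).mp ha h hh,
    fun hg a ha => hg a ((mem_vanIdeal H).mpr fun h hh => ha h hh)⟩

theorem isPrime_vanIdeal {H : Subgroup (Pt k A k)} (hH : IsIrred (H : Set (Pt k A k))) : (vanIdeal H).IsPrime := by
  refine ⟨fun h => ?_, fun {a b} hab => ?_⟩
  · have h1 := (mem_vanIdeal H).mp (h ▸ Submodule.mem_top : (1 : A) ∈ vanIdeal H) 1 (one_mem H)
    simp at h1
  · simp only [mem_vanIdeal] at hab ⊢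
    exact hH a b fun g hg => by rw [← map_mul]; exact hab g hg

/-- The closed points of the normaliser. -/
theorem isClosedPts_normalizer {H : Subgroup (Pt k A k)} (hH : IsClosedPts (H : Set (Pt k A k))) :
    IsClosedPts {g : Pt k A k | ∀ h ∈ H, g * h * g⁻¹ ∈ H ∧ g⁻¹ * h * g ∈ H} := by
  intro g hg h hh
  constructor
  · exact hH (mapsTo_zcl (f := fun x => x * h * x⁻¹) ((isReg_id.mul (isReg_const h)).mul isReg_id.inv)
      (fun x hx => (hx h hh).1) hg)
  · exact hH (mapsTo_zcl (f := fun x => x⁻¹ * h * x) ((isReg_id.inv.mul (isReg_const h)).mul isReg_id)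
      (fun x hx => (hx h hh).2) hg)

/-- The subgroup of elements normalising. -/
noncomputable def normSub (H : Subgroup (Pt k A k)) : Subgroup (Pt k A k) where
  carrier := {g | ∀ h ∈ H, g * h * g⁻¹ ∈ H ∧ g⁻¹ * h * g ∈ H}
  one_mem' h hh := by simpa using hh
  mul_mem' {a b} ha hb h hh := by
    refine ⟨?_, ?_⟩
    · rw [show a * b * h * (a * b)⁻¹ = a * (b * h * b⁻¹) * a⁻¹ by group]
      exact (ha _ (hb h hh).1).1
    · rw [show (a * b)⁻¹ * h * (a * b) = b⁻¹ * (a⁻¹ * h * a) * b by group]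
      exact (hb _ (ha h hh).2).2
  inv_mem' {a} ha h hh := by rw [inv_inv]; exact (ha h hh).symm

theorem le_normSub (H : Subgroup (Pt k A k)) : H ≤ normSub H := fun _ hg _ hh =>
  ⟨H.mul_mem (H.mul_mem hg hh) (H.inv_mem hg), H.mul_mem (H.mul_mem (H.inv_mem hg) hh) hg⟩

/-- A group all of whose points normalise a subgroup makes it normal. -/
theorem normal_of_normSub {H : Subgroup (Pt k A k)} (h : normSub H = ⊤) : H.Normal :=
  ⟨fun x hx g => ((h ▸ Subgroup.mem_top g : g ∈ normSub H) x hx).1⟩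

section Points

variable [IsAlgClosed k] [Algebra.FiniteType k A]

/-- The zero set of a prime ideal determines it. -/
theorem mem_of_zeros {P : Ideal A} [P.IsPrime] {a : A}
    (h : ∀ g : Pt k A k, (∀ x ∈ P, g x = 0) → g a = 0) : a ∈ P := by
  by_contra hne
  have : Algebra.FiniteType k (A ⧸ P) :=
    .of_surjective (Ideal.Quotient.mkₐ k P) Ideal.Quotient.mk_surjective
  obtain ⟨y, hy⟩ := ComodLib.exists_point_ne_zero (k := k) (a := Ideal.Quotient.mkₐ k P a) fun hn =>
    hne (Ideal.Quotient.eq_zero_iff_mem.mp hn.eq_zero)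
  exact hy (h (toConv (y.comp (Ideal.Quotient.mkₐ k P))) fun x hx => by
    show y (Ideal.Quotient.mk P x) = 0
    rw [Ideal.Quotient.eq_zero_iff_mem.mpr hx, map_zero])

/-- The identity component of the zero set of an ideal which is a group. -/
theorem exists_idComp (H : Subgroup (Pt k A k)) {J : Ideal A}
    (hJ : ∀ g : Pt k A k, g ∈ H ↔ ∀ a ∈ J, g a = 0) :
    ∃ C : Subgroup (Pt k A k), C ≤ H ∧ IsIrred (C : Set (Pt k A k)) ∧ IsClosedPts (C : Set (Pt k A k)) ∧
      vanIdeal C ∈ J.minimalPrimes ∧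
      (∀ S : Set (Pt k A k), IsIrred S → (1 : Pt k A k) ∈ S → S ⊆ H → S ⊆ C) ∧
      ∀ g : Pt k A k, (∀ h ∈ H, g * h * g⁻¹ ∈ H) → ∀ c ∈ C, g * c * g⁻¹ ∈ C := by
  have hle : J ≤ RingHom.ker (1 : Pt k A k).ofConv.toRingHom := fun a ha => (hJ 1).mp H.one_mem a ha
  have := RingHom.ker_isPrime (1 : Pt k A k).ofConv.toRingHom
  obtain ⟨P, hP, hP1⟩ := Ideal.exists_minimalPrimes_le hle
  have hPp : P.IsPrime := hP.1.1
  let C₀ : Set (Pt k A k) := {g | ∀ a ∈ P, g a = 0}
  have hC₀irr : IsIrred C₀ := fun a b hab => by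
    rcases hPp.mem_or_mem (mem_of_zeros (P := P) (a := a * b) fun g hg => (map_mul g.ofConv a b).trans (hab g hg)) with h | h
    · exact Or.inl fun g hg => hg a h
    · exact Or.inr fun g hg => hg b h
  have h1C : (1 : Pt k A k) ∈ C₀ := fun a ha => hP1 ha
  have hC₀H : C₀ ⊆ H := fun g hg => (hJ g).mpr fun a ha => hg a (hP.1.2 ha)
  have hmax : ∀ S : Set (Pt k A k), IsIrred S → (1 : Pt k A k) ∈ S → S ⊆ H → S ⊆ C₀ := by
    intro S hS hS1 hSH s hs
    let Q : Ideal A :=
      { carrier := {a | ∀ g ∈ Set.image2 (· * ·) S C₀, g a = 0}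
        add_mem' := fun ha hb g hg => by rw [map_add, ha g hg, hb g hg, add_zero]
        zero_mem' := fun g _ => map_zero _
        smul_mem' := fun c a ha g hg => by rw [smul_eq_mul, map_mul, ha g hg, mul_zero] }
    have hirr : IsIrred (Set.image2 (· * ·) S C₀) :=
      hS.image2 hC₀irr (fun t => isReg_mulRight t) (fun s => isReg_mulLeft s)
    have hQp : Q.IsPrime := by
      refine ⟨fun h => ?_, fun {a b} hab => hirr a b fun g hg => by rw [← map_mul]; exact hab g hg⟩
      have h1 := (h ▸ Submodule.mem_top : (1 : A) ∈ Q) 1 ⟨1, hS1, 1, h1C, mul_one 1⟩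
      simp at h1
    have hJQ : J ≤ Q := fun a ha g hg => by
      obtain ⟨x, hx, y, hy, rfl⟩ := hg
      exact (hJ _).mp (H.mul_mem (hSH hx) (hC₀H hy)) a ha
    have hQP : Q ≤ P := fun a ha => mem_of_zeros fun g hg => ha g ⟨1, hS1, g, hg, one_mul g⟩
    have e : P ≤ Q := hP.2 ⟨hQp, hJQ⟩ hQP
    exact fun a ha => e ha s ⟨s, hs, 1, h1C, mul_one s⟩
  have hmul : ∀ x ∈ C₀, ∀ y ∈ C₀, x * y ∈ C₀ := fun x hx y hy =>
    hmax (Set.image2 (· * ·) C₀ C₀) (hC₀irr.image2 hC₀irr (fun t => isReg_mulRight t) (fun s => isReg_mulLeft s))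
      ⟨1, h1C, 1, h1C, mul_one 1⟩ (fun _ ⟨a, ha, b, hb, e⟩ => e ▸ H.mul_mem (hC₀H ha) (hC₀H hb)) ⟨x, hx, y, hy, rfl⟩
  have hinv : ∀ x ∈ C₀, x⁻¹ ∈ C₀ := fun x hx =>
    hmax ((fun g => g⁻¹) '' C₀) (isIrred_image hC₀irr isReg_id.inv) ⟨1, h1C, inv_one⟩
      (fun _ ⟨a, ha, e⟩ => e ▸ H.inv_mem (hC₀H ha)) ⟨x, hx, rfl⟩
  let C : Subgroup (Pt k A k) :=
    { carrier := C₀, one_mem' := h1C, mul_mem' := fun {a b} ha hb => hmul a ha b hb,
      inv_mem' := fun {a} ha => hinv a ha }
  have hvan : vanIdeal C = P := le_antisymm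
    (fun a ha => mem_of_zeros fun g hg => (mem_vanIdeal C).mp ha g hg)
    (fun a ha => (mem_vanIdeal C).mpr fun g hg => hg a ha)
  refine ⟨C, hC₀H, hC₀irr, isClosedPts_zero _, hvan ▸ hP, hmax, fun g hg c hc => ?_⟩
  refine hmax ((fun x => g * x * g⁻¹) '' C₀) (isIrred_image hC₀irr (isReg_conj g)) ⟨1, h1C, by simp⟩
    (fun _ ⟨a, ha, e⟩ => e ▸ hg a (hC₀H ha)) ⟨c, hc, rfl⟩

/-- The identity component of a closed group of points. -/
theorem exists_idComp' {H : Subgroup (Pt k A k)} (hH : IsClosedPts (H : Set (Pt k A k))) :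
    ∃ C : Subgroup (Pt k A k), C ≤ H ∧ IsIrred (C : Set (Pt k A k)) ∧ IsClosedPts (C : Set (Pt k A k)) ∧
      (∀ S : Set (Pt k A k), IsIrred S → (1 : Pt k A k) ∈ S → S ⊆ H → S ⊆ C) ∧
      ∀ g : Pt k A k, (∀ h ∈ H, g * h * g⁻¹ ∈ H) → ∀ c ∈ C, g * c * g⁻¹ ∈ C := by
  obtain ⟨C, h1, h2, h3, -, h4, h5⟩ := exists_idComp H (J := vanIdeal H) fun g =>
    ⟨fun hg a ha => (mem_vanIdeal H).mp ha g hg, fun hg => hH (mem_zcl_vanIdeal.mpr hg)⟩
  exact ⟨C, h1, h2, h3, h4, h5⟩

/-- Nothing irreducible lies strictly between a component of a hypersurface and the group. -/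
theorem eq_or_eq_of_hypersurface {H C : Subgroup (Pt k A k)} (hH : IsIrred (H : Set (Pt k A k)))
    (hHc : IsClosedPts (H : Set (Pt k A k))) (hCc : IsClosedPts (C : Set (Pt k A k)))
    {f : A} (hC : vanIdeal C ∈ (vanIdeal H ⊔ Ideal.span {f}).minimalPrimes)
    {L : Set (Pt k A k)} (hL : IsIrred L) (hCL : (C : Set (Pt k A k)) ⊆ L) (hLH : L ⊆ H) :
    L ⊆ C ∨ (H : Set (Pt k A k)) ⊆ zcl L := by
  have hprime := isPrime_vanIdeal hH
  let Q : Ideal A :=
    { carrier := {a | ∀ g ∈ L, g a = 0}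
      add_mem' := fun ha hb g hg => by rw [map_add, ha g hg, hb g hg, add_zero]
      zero_mem' := fun g _ => map_zero _
      smul_mem' := fun c a ha g hg => by rw [smul_eq_mul, map_mul, ha g hg, mul_zero] }
  have hHQ : vanIdeal H ≤ Q := fun a ha g hg => (mem_vanIdeal H).mp ha g (hLH hg)
  have hQC : Q ≤ vanIdeal C := fun a ha => (mem_vanIdeal C).mpr fun g hg => ha g (hCL hg)
  have hQp : Q.IsPrime := by
    refine ⟨fun h => ?_, fun {a b} hab => hL a b fun g hg => by rw [← map_mul]; exact hab g hg⟩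
    have h1 := (h ▸ Submodule.mem_top : (1 : A) ∈ Q) 1 (hCL C.one_mem)
    simp at h1
  have hCp : (vanIdeal C).IsPrime := hC.1.1
  by_cases e1 : Q = vanIdeal C
  · exact Or.inl fun g hg => hCc (mem_zcl_vanIdeal.mpr fun a ha => (e1.symm ▸ ha : a ∈ Q) g hg)
  by_cases e2 : Q = vanIdeal H
  · exact Or.inr fun g hg a ha => (mem_vanIdeal H).mp (e2 ▸ (show a ∈ Q from ha)) g hg
  exfalso
  -- three primes in a chain below a component of a hypersurface
  let I := vanIdeal H
  let π := Ideal.Quotient.mk I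
  have : IsNoetherianRing A := Algebra.FiniteType.isNoetherianRing k A
  have hsurj : Function.Surjective π := Ideal.Quotient.mk_surjective
  have hk : RingHom.ker π = I := Ideal.mk_ker
  have hIC : I ≤ vanIdeal C := hHQ.trans hQC
  have hJmap : ((vanIdeal H ⊔ Ideal.span {f}).map π) = Ideal.span {π f} := by
    rw [Ideal.map_sup, Ideal.map_quotient_self, bot_sup_eq, Ideal.map_span, Set.image_singleton]
  have hmapC : (vanIdeal C).map π ∈ (Ideal.span {π f}).minimalPrimes := by
    rw [← hJmap]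
    refine ⟨⟨Ideal.map_isPrime_of_surjective hsurj (by rw [hk]; exact hIC), Ideal.map_mono hC.1.2⟩,
      fun R hR hRle => ?_⟩
    have hRp : R.IsPrime := hR.1
    have hsub : vanIdeal H ⊔ Ideal.span {f} ≤ R.comap π := Ideal.map_le_iff_le_comap.mp hR.2
    have hle : R.comap π ≤ vanIdeal C := by
      refine (Ideal.comap_mono hRle).trans ?_
      rw [Ideal.comap_map_of_surjective π hsurj, ← RingHom.ker_eq_comap_bot, hk]
      exact sup_le le_rfl hIC
    have h3 := hC.2 ⟨Ideal.IsPrime.comap π, hsub⟩ hle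
    rw [← Ideal.map_comap_of_surjective π hsurj R]
    exact Ideal.map_mono h3
  have hheight := Ideal.height_le_spanRank_toENat_of_mem_minimalPrimes _ _ hmapC
  have hCp' : ((vanIdeal C).map π).IsPrime := hmapC.1.1
  have hQp' : (Q.map π).IsPrime := Ideal.map_isPrime_of_surjective hsurj (by rw [hk]; exact hHQ)
  have hstrict : ∀ P P' : Ideal A, I ≤ P → I ≤ P' → P < P' → P.map π < P'.map π := fun P P' hP hP' h =>
    lt_of_le_of_ne (Ideal.map_mono h.le) fun e => h.ne (by
      have := congrArg (Ideal.comap π) e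
      rwa [Ideal.comap_map_of_surjective π hsurj, Ideal.comap_map_of_surjective π hsurj, ← RingHom.ker_eq_comap_bot,
        hk, sup_eq_left.mpr hP, sup_eq_left.mpr hP'] at this)
  have h01 : (⊥ : Ideal (A ⧸ I)) < Q.map π := by
    have := hstrict I Q le_rfl hHQ (lt_of_le_of_ne hHQ (Ne.symm e2))
    rwa [Ideal.map_quotient_self] at this
  have h12 : Q.map π < (vanIdeal C).map π := hstrict Q _ hHQ hIC (lt_of_le_of_ne hQC e1)
  have : IsDomain (A ⧸ I) := Ideal.Quotient.isDomain _
  have hbot : (⊥ : Ideal (A ⧸ I)).IsPrime := Ideal.isPrime_bot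
  have l1 := Ideal.height_add_one_le_of_lt_of_isPrime h01
  have l2 := Ideal.height_add_one_le_of_lt_of_isPrime h12
  have hsp : (Submodule.spanRank (Ideal.span {π f})).toENat ≤ 1 := by
    have := Submodule.spanRank_span_le_card (R := A ⧸ I) (M := A ⧸ I) {π f}
    rw [Cardinal.mk_fintype, Set.card_singleton, Nat.cast_one] at this
    simpa using Cardinal.toENat.monotone' this
  have h3 : ((vanIdeal C).map π).height ≤ 1 := hheight.trans hsp
  have h5 : (⊥ : Ideal (A ⧸ I)).height + 1 + 1 ≤ 1 := le_trans (add_le_add_left l1 1 |>.trans l2) h3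
  have h6 : (1 : ℕ∞) + 1 ≤ 1 := le_trans (by gcongr; exact le_add_self) h5
  norm_num at h6

end Points

section Nilpotent

/-- The commutators of two irreducible subgroups form an irreducible subgroup. -/
theorem isIrred_commutator {H K : Subgroup (Pt k A k)} (hH : IsIrred (H : Set (Pt k A k)))
    (hK : IsIrred (K : Set (Pt k A k))) : IsIrred ((⁅H, K⁆ : Subgroup (Pt k A k)) : Set (Pt k A k)) := by
  let C : Set (Pt k A k) := Set.image2 (fun s t => ⁅s, t⁆) (H : Set (Pt k A k)) (K : Set (Pt k A k))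
  let D : Set (Pt k A k) := Set.image2 (· * ·) C ((fun g => g⁻¹) '' C)
  have hC : IsIrred C := hH.image2 hK
    (fun t => by
      simp only [commutatorElement_def]
      exact ((isReg_id.mul (isReg_const t)).mul isReg_id.inv).mul (isReg_const t).inv)
    (fun s => by
      simp only [commutatorElement_def]
      exact (((isReg_const s).mul isReg_id).mul (isReg_const s).inv).mul isReg_id.inv)
  have hC1 : (1 : Pt k A k) ∈ C := ⟨1, H.one_mem, 1, K.one_mem, by simp⟩
  have hD : IsIrred D := hC.image2 (isIrred_image hC isReg_id.inv) (fun t => isReg_mulRight t) (fun s => isReg_mulLeft s)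
  have hD1 : (1 : Pt k A k) ∈ D := ⟨1, hC1, 1, ⟨1, hC1, inv_one⟩, mul_one 1⟩
  have hCD : C ⊆ D := fun x hx => ⟨x, hx, 1, ⟨1, hC1, inv_one⟩, mul_one x⟩
  have hCD' : ∀ x ∈ C, x⁻¹ ∈ D := fun x hx => ⟨1, hC1, x⁻¹, ⟨x, hx, rfl⟩, one_mul _⟩
  let P : ℕ → Set (Pt k A k) := fun n => Nat.rec {1} (fun _ Q => Set.image2 (· * ·) Q D) n
  have hP : ∀ n, IsIrred (P n) := fun n => by
    induction n with
    | zero => exact AlgGrpQ.isIrred_singleton 1
    | succ n ih => exact ih.image2 hD (fun t => isReg_mulRight t) (fun s => isReg_mulLeft s)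
  have hmono : Monotone P := monotone_nat_of_le_succ fun n x hx => ⟨x, hx, 1, hD1, mul_one x⟩
  have hDle : D ⊆ ((⁅H, K⁆ : Subgroup (Pt k A k)) : Set (Pt k A k)) := by
    rintro _ ⟨_, ⟨s, hs, t, ht, rfl⟩, _, ⟨_, ⟨s', hs', t', ht', rfl⟩, rfl⟩, rfl⟩
    exact Subgroup.mul_mem _ (Subgroup.commutator_mem_commutator hs ht)
      (Subgroup.inv_mem _ (Subgroup.commutator_mem_commutator hs' ht'))
  have hle : ∀ n, P n ⊆ ((⁅H, K⁆ : Subgroup (Pt k A k)) : Set (Pt k A k)) := fun n => by
    induction n with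
    | zero => exact fun x hx => hx ▸ (⁅H, K⁆ : Subgroup (Pt k A k)).one_mem
    | succ n ih =>
      rintro _ ⟨x, hx, y, hy, rfl⟩
      exact Subgroup.mul_mem _ (ih hx) (hDle hy)
  have heq : ((⁅H, K⁆ : Subgroup (Pt k A k)) : Set (Pt k A k)) = ⋃ n, P n := by
    refine Set.Subset.antisymm (fun x hx => ?_) (Set.iUnion_subset hle)
    have hx' : x ∈ Subgroup.closure C := by
      rw [Subgroup.commutator_def] at hx
      refine Subgroup.closure_mono ?_ hx
      rintro _ ⟨s, hs, t, ht, rfl⟩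
      exact ⟨s, hs, t, ht, rfl⟩
    induction hx' using Subgroup.closure_induction_right with
    | one => exact Set.mem_iUnion.mpr ⟨0, rfl⟩
    | mul_right x _ y hy ih =>
      obtain ⟨n, hn⟩ := Set.mem_iUnion.mp (ih (by assumption))
      exact Set.mem_iUnion.mpr ⟨n + 1, x, hn, y, hCD hy, rfl⟩
    | mul_inv_cancel x _ y hy ih =>
      obtain ⟨n, hn⟩ := Set.mem_iUnion.mp (ih (by assumption))
      exact Set.mem_iUnion.mpr ⟨n + 1, x, hn, y⁻¹, hCD' y hy, rfl⟩
  rw [heq]
  exact AlgGrpQ.isIrred_iUnion hmono hP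

/-- A maximal closed irreducible subgroup of an irreducible nilpotent group is normalised by it. -/
theorem le_normSub_of_maximal {U C : Subgroup (Pt k A k)} (hU : IsIrred (U : Set (Pt k A k)))
    (hnil : ∃ n, U.lowerCentralSeries n = ⊥) (hCU : C ≤ U) (hCc : IsClosedPts (C : Set (Pt k A k)))
    (hC : IsIrred (C : Set (Pt k A k)))
    (hmax : ∀ L : Set (Pt k A k), IsIrred L → (C : Set (Pt k A k)) ⊆ L → L ⊆ U →
      L ⊆ C ∨ (U : Set (Pt k A k)) ⊆ zcl L) :
    U ≤ normSub C := by
  classical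
  obtain ⟨n, hn⟩ := hnil
  have hex : ∃ i, U.lowerCentralSeries i ≤ C := ⟨n, hn.le.trans bot_le⟩
  rcases Nat.eq_zero_or_pos (Nat.find hex) with h0 | hpos
  · have h := Nat.find_spec hex
    rw [h0, Subgroup.lowerCentralSeries_zero] at h
    exact h.trans (le_normSub C)
  obtain ⟨i, hi⟩ := Nat.exists_eq_succ_of_ne_zero hpos.ne'
  have hle : ∀ j, U.lowerCentralSeries j ≤ U := by
    intro j
    induction j with
    | zero => exact le_rfl
    | succ j ih =>
      rw [Subgroup.lowerCentralSeries_succ, Subgroup.commutator_le]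
      exact fun a ha b hb => U.mul_mem (U.mul_mem (U.mul_mem (ih ha) hb) (U.inv_mem (ih ha))) (U.inv_mem hb)
  have hirr : ∀ j, IsIrred (U.lowerCentralSeries j : Set (Pt k A k)) := by
    intro j
    induction j with
    | zero => exact hU
    | succ j ih => rw [Subgroup.lowerCentralSeries_succ]; exact isIrred_commutator ih hU
  set K := U.lowerCentralSeries i with hKdef
  have hnotle : ¬ K ≤ C := Nat.find_min hex (hi ▸ Nat.lt_succ_self i)
  have hcomm : ⁅K, U⁆ ≤ C := by
    have := Nat.find_spec hex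
    rwa [hi, Nat.succ_eq_add_one, Subgroup.lowerCentralSeries_succ] at this
  have hKn : K ≤ normSub C := by
    intro g hg c hc
    constructor
    · have h1 := hcomm (Subgroup.commutator_mem_commutator hg (hCU hc))
      rw [commutatorElement_def] at h1
      have h2 := C.mul_mem h1 hc
      rwa [inv_mul_cancel_right] at h2
    · have h1 := hcomm (Subgroup.commutator_mem_commutator (K.inv_mem hg) (hCU hc))
      rw [commutatorElement_def, inv_inv] at h1
      have h2 := C.mul_mem h1 hc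
      rwa [inv_mul_cancel_right] at h2
  let L : Set (Pt k A k) := Set.image2 (· * ·) (C : Set (Pt k A k)) (K : Set (Pt k A k))
  rcases hmax L (hC.image2 (hirr i) (fun t => isReg_mulRight t) (fun s => isReg_mulLeft s))
      (fun c hc => ⟨c, hc, 1, K.one_mem, mul_one c⟩)
      (fun _ ⟨c, hc, g, hg, e⟩ => e ▸ U.mul_mem (hCU hc) (hle i hg)) with h | h
  · exact absurd (fun g hg => h ⟨1, C.one_mem, g, hg, one_mul g⟩) hnotle
  · intro g hg
    refine isClosedPts_normalizer hCc (zcl_mono ?_ (h hg))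
    rintro _ ⟨c, hc, g, hg, rfl⟩
    exact (normSub C).mul_mem (le_normSub C hc) (hKn hg)

/-- The closure of a solvable group of points is solvable. -/
theorem isSolvable_zclGroup (H : Subgroup (Pt k A k)) [Group.IsSolvable H] : Group.IsSolvable (zclGroup H) := by
  obtain ⟨n, hn⟩ := (Group.isSolvable_def H).mp ‹_›
  let S : Subgroup (Pt k A k) → ℕ → Subgroup (Pt k A k) := fun L j => (derivedSeries L j).map L.subtype
  have hS : ∀ L j, S L (j + 1) = ⁅S L j, S L j⁆ := fun L j => by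
    simp only [S, derivedSeries_succ, Subgroup.map_commutator]
  have key : ∀ j, S (zclGroup H) j ≤ zclGroup (S H j) := by
    intro j
    induction j with
    | zero =>
      simp only [S, derivedSeries_zero, ← MonoidHom.range_eq_map, Subgroup.range_subtype]
      exact le_rfl
    | succ j ih =>
      rw [hS, Subgroup.commutator_le]
      intro a ha b hb
      rw [hS]
      have hreg₁ : ∀ t : Pt k A k, IsReg fun x => ⁅x, t⁆ := fun t => by
        exact ((isReg_id.mul (isReg_const t)).mul isReg_id.inv).mul (isReg_const t).inv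
      have hreg₂ : ∀ s : Pt k A k, IsReg fun x => ⁅s, x⁆ := fun s => by
        exact (((isReg_const s).mul isReg_id).mul (isReg_const s).inv).mul isReg_id.inv
      have h1 : ∀ y ∈ S H j, ⁅a, y⁆ ∈ zclGroup ⁅S H j, S H j⁆ := fun y hy =>
        mapsTo_zcl (f := fun x => ⁅x, y⁆) (hreg₁ y) (fun x hx => Subgroup.commutator_mem_commutator hx hy) (ih ha)
      exact isClosedPts_zcl _ (mapsTo_zcl (f := fun y => ⁅a, y⁆) (hreg₂ a) h1 (ih hb))
  refine (Group.isSolvable_def _).mpr ⟨n, ?_⟩
  have h0 : S H n = ⊥ := by simp only [S, hn, Subgroup.map_bot]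
  have h1 : zclGroup (⊥ : Subgroup (Pt k A k)) = ⊥ := le_bot_iff.mp (zclGroup_le (fun g hg => by
    refine pt_ext fun a => ?_
    have := hg (a - algebraMap k A ((1 : Pt k A k) a)) fun h hh => by
      rw [show h = 1 from hh, map_sub, AlgHom.commutes, Algebra.algebraMap_self, RingHom.id_apply, sub_self]
    rw [map_sub, AlgHom.commutes, sub_eq_zero] at this
    simpa using this) le_rfl)
  have h2 := key n
  rw [h0, h1, le_bot_iff, Subgroup.map_eq_bot_iff_of_injective _ (Subgroup.subtype_injective _)] at h2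
  exact h2

end Nilpotent

end Groth.Agent.RootStruct69
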