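import Groth.Agent.RootStruct69.Points
import Groth.Agent.BigCell29.MonoTorus
import Groth.Agent.GrpSchLib.AffineHopf
import Groth.Prelude.Def_AGF

/-!
# Subgroups of an affine group containing a split torus, in coordinates
-/

set_option autoImplicit false
set_option linter.unusedSectionVars false

universe u

open TensorProduct WithConv
open CategoryTheory
open scoped AddMonoidAlgebra

namespace Groth.Agent.RootStruct69

open BigCell29 RedRk29
open AlgGrpQ (IsIrred IsReg isReg_id isReg_const)
open GrpSchLib.AffineHopf (sp spMap spMap_mul spMap_comp)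

variable {k : Type u} [Field k] {A : Type u} [CommRing A] [HopfAlgebra k A]
  {B : Type u} [CommRing B] [HopfAlgebra k B] {M : Type} [AddCommGroup M]
  {R : Type u} [CommRing R] [Algebra k R]

/-- Points pushed along a map of Hopf algebras. -/
noncomputable def push (q : A →ₐc[k] B) : Pt k B R →* Pt k A R where
  toFun g := toConv (g.ofConv.comp (q : A →ₐ[k] B))
  map_one' := pt_ext fun a => by
    show (1 : Pt k B R) (q a) = (1 : Pt k A R) a
    simp [AlgHom.convOne_apply, CoalgHomClass.counit_comp_apply]
  map_mul' g h := by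
    show toConv ((g * h).ofConv.comp (q : A →ₐ[k] B)) = _
    rw [AlgHom.convMul_comp_bialgHom_distrib]

@[simp] theorem push_apply (q : A →ₐc[k] B) (g : Pt k B R) (a : A) : push q g a = g (q a) := rfl

theorem push_injective {q : A →ₐc[k] B} (hq : Function.Surjective q) :
    Function.Injective (push (R := R) q) := fun g h e => pt_ext fun b => by
  obtain ⟨a, rfl⟩ := hq b
  exact DFunLike.congr_fun (congrArg WithConv.ofConv e) a

theorem mapPt_push {R' : Type u} [CommRing R'] [Algebra k R'] (f : R →ₐ[k] R') (q : A →ₐc[k] B) (g : Pt k B R) :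
    mapPt f (push q g) = push q (mapPt f g) := rfl

theorem mem_range_push {q : A →ₐc[k] B} (hq : Function.Surjective q) {g : Pt k A R} :
    g ∈ (push (R := R) q).range ↔ ∀ a, q a = 0 → g a = 0 := by
  refine ⟨fun ⟨h, e⟩ a ha => by rw [← e, push_apply, ha, map_zero], fun h => ?_⟩
  have hle : RingHom.ker (q : A →ₐ[k] B).toRingHom ≤ RingHom.ker g.ofConv.toRingHom := fun a ha => h a ha
  refine ⟨toConv (AlgHom.liftOfSurjective (q : A →ₐ[k] B) hq g.ofConv hle), pt_ext fun a => ?_⟩
  exact AlgHom.liftOfSurjective_apply (q : A →ₐ[k] B) hq g.ofConv hle a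

theorem isClosedPts_range_push {q : A →ₐc[k] B} (hq : Function.Surjective q) :
    IsClosedPts ((push (R := k) q).range : Set (Pt k A k)) := by
  intro g hg
  refine (mem_range_push hq).mpr fun a ha => hg a fun h hh => (mem_range_push hq).mp hh a ha

/-- The preimage of an irreducible set is irreducible. -/
theorem isIrred_preimage_push {q : A →ₐc[k] B} (hq : Function.Surjective q) {S : Set (Pt k A k)} (hS : IsIrred S)
    (hle : S ⊆ ((push (R := k) q).range : Set (Pt k A k))) : IsIrred (push q ⁻¹' S) := by
  intro a b hab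
  obtain ⟨a, rfl⟩ := hq a
  obtain ⟨b, rfl⟩ := hq b
  rcases hS a b fun g hg => by
      obtain ⟨h, rfl⟩ := hle hg
      exact hab h hg with h | h
  · exact Or.inl fun g hg => h _ hg
  · exact Or.inr fun g hg => h _ hg

theorem isIrred_image_push (q : A →ₐc[k] B) {S : Set (Pt k B k)} (hS : IsIrred S) : IsIrred (push q '' S) := by
  intro a b hab
  rcases hS (q a) (q b) fun g hg => hab _ ⟨g, hg, rfl⟩ with h | h
  · exact Or.inl fun _ ⟨g, hg, e⟩ => e ▸ h g hg
  · exact Or.inr fun _ ⟨g, hg, e⟩ => e ▸ h g hg

theorem isClosedPts_preimage_push (q : A →ₐc[k] B) {S : Set (Pt k A k)} (hS : IsClosedPts S) :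
    IsClosedPts (push q ⁻¹' S) := fun g hg => hS fun a ha => hg (q a) fun h hh => ha _ hh

theorem isIrred_range_push [IsAlgClosed k] [Algebra.FiniteType k B] [IsDomain B] (q : A →ₐc[k] B) :
    IsIrred ((push (R := k) q).range : Set (Pt k A k)) := by
  have e : ((push (R := k) q).range : Set (Pt k A k)) = push q '' Set.univ := by
    rw [Set.image_univ]; rfl
  rw [e]
  exact isIrred_image_push q AlgGrpQ.isIrred_univ

variable (k) in
/-- An irreducible closed subgroup is the group of points of a smooth quotient Hopf algebra. -/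
theorem exists_sub [IsAlgClosed k] [Algebra.FiniteType k A] {H : Subgroup (Pt k A k)}
    (hc : IsClosedPts (H : Set (Pt k A k))) (hi : IsIrred (H : Set (Pt k A k))) :
    ∃ (B : Type u) (_ : CommRing B) (_ : HopfAlgebra k B) (_ : Algebra.FiniteType k B) (_ : IsDomain B)
      (_ : Algebra.Smooth k B) (q : A →ₐc[k] B), Function.Surjective q ∧ (push (R := k) q).range = H := by
  haveI := isHopfIdeal_vanIdeal H
  haveI := isPrime_vanIdeal hi
  haveI : Algebra.FiniteType k (A ⧸ vanIdeal H) :=
    .of_surjective (Ideal.Quotient.mkₐ k (vanIdeal H)) Ideal.Quotient.mk_surjective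
  haveI : IsDomain (A ⧸ vanIdeal H) := Ideal.Quotient.isDomain _
  let q := Bialgebra.Quotient.mkBialgHom (R := k) (vanIdeal H)
  have hq : Function.Surjective q := Ideal.Quotient.mk_surjective
  refine ⟨_, inferInstance, inferInstance, inferInstance, inferInstance, smooth_of_isReduced, q, hq, ?_⟩
  ext g
  rw [mem_range_push hq]
  refine ⟨fun h => hc (mem_zcl_vanIdeal.mpr fun a ha => h a (Ideal.Quotient.eq_zero_iff_mem.mpr ha)),
    fun hg a ha => (mem_vanIdeal H).mp (Ideal.Quotient.eq_zero_iff_mem.mp ha) g hg⟩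

section Torus

variable (T : SplitTorus k A M)

/-- The rational points of the torus. -/
noncomputable def tsub : Subgroup (Pt k A k) where
  carrier := Set.range (T.tor (B := k))
  one_mem' := ⟨1, map_one _⟩
  mul_mem' := fun ⟨χ, e⟩ ⟨χ', e'⟩ => ⟨χ * χ', by rw [map_mul, e, e']⟩
  inv_mem' := fun ⟨χ, e⟩ => ⟨χ.comp invMonoidHom, by
    rw [← e]
    refine eq_inv_of_mul_eq_one_left ?_
    rw [← map_mul, show χ.comp invMonoidHom * χ = 1 from MonoidHom.ext fun m => by
      simp only [MonoidHom.mul_apply, MonoidHom.comp_apply, invMonoidHom_apply, MonoidHom.one_apply]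
      rw [← map_mul, inv_mul_cancel, map_one], map_one]⟩

theorem tor_mem_tsub (χ : Multiplicative M →* k) : T.tor χ ∈ tsub T := ⟨χ, rfl⟩

theorem tor_apply (χ : Multiplicative M →* R) (a : A) : T.tor χ a = AddMonoidAlgebra.lift k R M χ (T.π a) := rfl

theorem tor_injective (hπ : Function.Surjective T.π) : Function.Injective (T.tor (B := R)) := fun χ χ' h => by
  refine MonoidHom.ext fun m => ?_
  obtain ⟨a, ha⟩ := hπ (AddMonoidAlgebra.single m.toAdd 1)
  have := DFunLike.congr_fun (congrArg WithConv.ofConv h) a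
  rw [tor_apply, tor_apply, ha] at this
  simpa using this

theorem tor_charInv (χ : Multiplicative M →* R) : T.tor (χ.comp invMonoidHom) = (T.tor χ)⁻¹ := by
  refine eq_inv_of_mul_eq_one_left ?_
  rw [← map_mul, show χ.comp invMonoidHom * χ = 1 from MonoidHom.ext fun m => by
    simp [← map_mul], map_one]

theorem tor_comm (χ χ' : Multiplicative M →* R) : T.tor χ * T.tor χ' = T.tor χ' * T.tor χ := by
  rw [← map_mul, mul_comm, map_mul]

/-- Conjugation by a point of the torus, through the grading. -/
theorem conj_tor (χ : Multiplicative M →* R) (g : Pt k A R) :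
    T.tor χ * g * (T.tor χ)⁻¹ =
      mapPt ((AddMonoidAlgebra.lift R R M χ).restrictScalars k) (T.coact.act g) := by
  rw [T.act_eq, map_mul, map_mul, map_inv, T.mapPt_tor, mapPt_mapPt]
  have e1 : ((AddMonoidAlgebra.lift R R M χ).restrictScalars k).toRingHom.toMonoidHom.comp (univChar R M) = χ := by
    ext m; simp
  have e2 : ((AddMonoidAlgebra.lift R R M χ).restrictScalars k).comp AddMonoidAlgebra.singleZeroAlgHom =
      AlgHom.id k R := by
    ext x; simp
  rw [e1, e2, mapPt_id]

theorem conj_tor_apply (χ : Multiplicative M →* R) (g : Pt k A R) (a : A) :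
    (T.tor χ * g * (T.tor χ)⁻¹) a =
      (T.coact.c a).coeff.sum fun m x => g x * χ (Multiplicative.ofAdd m) := by
  rw [conj_tor, mapPt_apply, AlgHom.restrictScalars_apply, AddMonoidAlgebra.lift_apply]
  show ((AddMonoidAlgebra.mapAlgHom M g.ofConv) (T.coact.c a)).coeff.sum _ = _
  rw [show ((AddMonoidAlgebra.mapAlgHom M g.ofConv) (T.coact.c a)).coeff = (T.coact.c a).coeff.mapRange g.ofConv (map_zero _) from
    Finsupp.ext fun m => by simp, Finsupp.sum_mapRange_index (fun m => by simp)]
  exact Finsupp.sum_congr fun m _ => by simp [smul_eq_mul]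

variable [IsAlgClosed k] [Module.Free ℤ M] [Module.Finite ℤ M]

/-- Characters separate the group algebra. -/
theorem eq_zero_of_forall_lift {x : k[M]} (h : ∀ χ : Multiplicative M →* k, AddMonoidAlgebra.lift k k M χ x = 0) :
    x = 0 := by
  refine AddMonoidAlgebra.coeff_injective (eq_zero_of_sum_char_mul_eq_zero (k := k) fun χ => ?_)
  simpa [AddMonoidAlgebra.lift_apply] using h χ

/-- The comorphism of the torus is a map of bialgebras. -/
noncomputable def torB : A →ₐc[k] k[M] :=
  BialgHom.ofAlgHom T.π
    (by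
      refine AlgHom.ext fun a => ?_
      have h := DFunLike.congr_fun (congrArg WithConv.ofConv (map_one (T.tor (B := k)))) a
      rw [tor_apply, AlgHom.convOne_apply] at h
      show Coalgebra.counit (R := k) (T.π a) = Coalgebra.counit (R := k) a
      rw [Algebra.algebraMap_self, RingHom.id_apply] at h
      rw [← h]
      induction T.π a using AddMonoidAlgebra.induction_linear with
      | zero => simp
      | add x y hx hy => simp [hx, hy]
      | single m r => simp)
    (by
      refine AlgHom.ext fun a => sub_eq_zero.mp ?_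
      refine eq_zero_of_forall_pairs (B := k[M]) (C := k[M])
        (Set.range fun χ : Multiplicative M →* k => AddMonoidAlgebra.lift k k M χ)
        (Set.range fun χ : Multiplicative M →* k => AddMonoidAlgebra.lift k k M χ)
        (fun b hb => eq_zero_of_forall_lift fun χ => hb _ ⟨χ, rfl⟩)
        (fun b hb => eq_zero_of_forall_lift fun χ => hb _ ⟨χ, rfl⟩) ?_
      rintro _ ⟨χ, rfl⟩ _ ⟨χ', rfl⟩
      rw [map_sub, sub_eq_zero]
      have h := DFunLike.congr_fun (congrArg WithConv.ofConv (map_mul (T.tor (B := k)) χ χ')) a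
      rw [AlgHom.convMul_apply, tor_apply] at h
      refine Eq.trans ?_ (Eq.trans h.symm ?_)
      · show Algebra.TensorProduct.lift _ _ _ (Algebra.TensorProduct.map T.π T.π (Coalgebra.comul (R := k) a)) = _
        induction Coalgebra.comul (R := k) a using TensorProduct.induction_on with
        | zero => simp
        | tmul p q => simp [tor_apply]
        | add p q hp hq => simp only [map_add, hp, hq]
      · show _ = Algebra.TensorProduct.lift _ _ _ (Coalgebra.comul (R := k) (T.π a))
        induction T.π a using AddMonoidAlgebra.induction_linear with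
        | zero => simp
        | add x y hx hy => simp [hx, hy]
        | single m r => simp [mul_comm, mul_left_comm])

@[simp] theorem torB_apply (a : A) : torB T a = T.π a := rfl

/-- The morphism of group schemes of the torus. -/
noncomputable def torMor : sp k k[M] ⟶ sp k A := spMap ((torB T : A →ₐc[k] k[M]) : A →ₐ[k] k[M])

/-- The torus is a maximal torus. -/
def IsMaxT : Prop := AGF.IsMaxTorus (torMor T)

theorem isClosedPts_tsub (hπ : Function.Surjective T.π) : IsClosedPts (tsub T : Set (Pt k A k)) := by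
  intro g hg
  have h0 : ∀ a, T.π a = 0 → g a = 0 := fun a ha => hg a fun _ ⟨χ, e⟩ => by
    rw [← e, tor_apply, ha, map_zero]
  have hle : RingHom.ker T.π.toRingHom ≤ RingHom.ker g.ofConv.toRingHom := h0
  let f := AlgHom.liftOfSurjective T.π hπ g.ofConv hle
  refine ⟨(f : k[M] →* k).comp (AddMonoidAlgebra.of k M), pt_ext fun a => ?_⟩
  rw [tor_apply]
  refine Eq.trans ?_ (AlgHom.liftOfSurjective_apply T.π hπ g.ofConv hle a)
  exact congrArg (fun φ : k[M] →ₐ[k] k => φ (T.π a)) ((AddMonoidAlgebra.lift k k M).apply_symm_apply f)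

theorem isIrred_tsub : IsIrred (tsub T : Set (Pt k A k)) := by
  intro a b hab
  have : IsDomain k[M] := isDomain_monoidAlgebra
  have h : T.π a * T.π b = 0 := eq_zero_of_forall_lift fun χ => by
    rw [map_mul]
    exact hab _ (tor_mem_tsub T χ)
  rcases mul_eq_zero.mp h with h | h
  · exact Or.inl fun _ ⟨χ, e⟩ => by rw [← e, tor_apply, h, map_zero]
  · exact Or.inr fun _ ⟨χ, e⟩ => by rw [← e, tor_apply, h, map_zero]

variable {T}

/-- The torus in a subgroup containing it. -/
theorem exists_subTorus {q : A →ₐc[k] B} (hq : Function.Surjective q) (hle : tsub T ≤ (push (R := k) q).range) :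
    ∃ TB : SplitTorus k B M, ∀ a, TB.π (q a) = T.π a := by
  have hker : RingHom.ker (q : A →ₐ[k] B).toRingHom ≤ RingHom.ker T.π.toRingHom := fun a ha => by
    refine eq_zero_of_forall_lift fun χ => ?_
    exact (mem_range_push hq).mp (hle (tor_mem_tsub T χ)) a ha
  let πB := AlgHom.liftOfSurjective (q : A →ₐ[k] B) hq T.π hker
  have hπB : ∀ a, πB (q a) = T.π a := AlgHom.liftOfSurjective_apply (q : A →ₐ[k] B) hq T.π hker
  refine ⟨⟨πB, fun R _ _ χ χ' => push_injective hq ?_⟩, hπB⟩
  have e : ∀ χ : Multiplicative M →* R, push q (torPt πB χ) = T.tor χ := fun χ => pt_ext fun a => by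
    show AddMonoidAlgebra.lift k R M χ (πB (q a)) = _
    rw [hπB]; rfl
  rw [map_mul, e, e, e, map_mul]

variable {q : A →ₐc[k] B} {TB : SplitTorus k B M}

theorem surjective_subTorus (hπ : Function.Surjective T.π) (hTB : ∀ a, TB.π (q a) = T.π a) :
    Function.Surjective TB.π := fun x => by
  obtain ⟨a, rfl⟩ := hπ x
  exact ⟨q a, hTB a⟩

theorem push_tor (hTB : ∀ a, TB.π (q a) = T.π a) (χ : Multiplicative M →* R) :
    push q (TB.tor χ) = T.tor χ := pt_ext fun a => by
  show AddMonoidAlgebra.lift k R M χ (TB.π (q a)) = _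
  rw [hTB]; rfl

theorem map_tsub (hTB : ∀ a, TB.π (q a) = T.π a) : (tsub TB).map (push q) = tsub T := by
  ext g
  refine ⟨fun ⟨_, ⟨χ, rfl⟩, e⟩ => ⟨χ, by rw [← e, push_tor hTB]⟩, fun ⟨χ, e⟩ => ⟨_, tor_mem_tsub TB χ, ?_⟩⟩
  rw [push_tor hTB, e]

/-- The gradings agree. -/
theorem q_coact_p (hTB : ∀ a, TB.π (q a) = T.π a) (m : M) (a : A) :
    q (T.coact.p m a) = TB.coact.p m (q a) := by
  have e : push q (TB.coact.act (toConv (AlgHom.id k B))) = T.coact.act (push q (toConv (AlgHom.id k B))) := by
    rw [TB.act_eq, T.act_eq, map_mul, map_mul, map_inv, push_tor hTB, ← mapPt_push]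
  have e' := DFunLike.congr_fun (congrArg WithConv.ofConv e) a
  have e'' := congrArg (fun x : B[M] => x.coeff m) e'
  simp only [push_apply, Coact.act_coeff, ofConv_toConv, AlgHom.id_apply] at e''
  exact e''.symm

end Torus

end Groth.Agent.RootStruct69
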